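import Mathlib.Algebra.Module.FinitePresentation
import Mathlib.RingTheory.Adjoin.FG
import Mathlib.RingTheory.IsTensorProduct
import Mathlib.RingTheory.MvPolynomial.Basic
import Mathlib.RingTheory.Polynomial.Basic
import Mathlib.RingTheory.TensorProduct.MvPolynomial

/-!
# Finitely presented modules over polynomial rings come from finitely generated subrings
-/

set_option autoImplicit false

universe u

open TensorProduct MvPolynomial

namespace Groth.Agent.FlatB12.Spreadout

attribute [local instance] MvPolynomial.algebraMvPolynomial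

set_option maxHeartbeats 1600000 in
/-- A finitely presented module over `A[X]`, with a polynomial acting on it, descends to a finitely generated
`ℤ`-subalgebra of `A`. -/
theorem exists_descent {A : Type u} [CommRing A] {n : ℕ} (N : Type u) [AddCommGroup N] [Module A N]
    [Module (MvPolynomial (Fin n) A) N] [IsScalarTower A (MvPolynomial (Fin n) A) N]
    [Module.FinitePresentation (MvPolynomial (Fin n) A) N] (f : MvPolynomial (Fin n) A) :
    ∃ (A₀ : Subalgebra ℤ A) (_ : A₀.FG) (M₀ : Type u) (_ : AddCommGroup M₀) (_ : Module A₀ M₀)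
      (_ : Module (MvPolynomial (Fin n) A₀) M₀) (_ : IsScalarTower A₀ (MvPolynomial (Fin n) A₀) M₀)
      (j : M₀ →ₗ[A₀] N) (f₀ : MvPolynomial (Fin n) A₀),
      Module.Finite (MvPolynomial (Fin n) A₀) M₀ ∧ IsBaseChange A j ∧ MvPolynomial.map (algebraMap A₀ A) f₀ = f ∧
      ∀ (g : MvPolynomial (Fin n) A₀) (m : M₀), MvPolynomial.map (algebraMap A₀ A) g • j m = j (g • m) := by
  classical
  obtain ⟨m, π, hπ⟩ := Module.Finite.exists_fin' (MvPolynomial (Fin n) A) N
  obtain ⟨G, hG⟩ := Module.FinitePresentation.fg_ker π hπ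
  let cs : Finset A := (G.biUnion fun g => Finset.univ.biUnion fun i => (g i).support.image fun d => coeff d (g i)) ∪
    f.support.image fun d => coeff d f
  let A₀ : Subalgebra ℤ A := Algebra.adjoin ℤ (cs : Set A)
  let P₀ := MvPolynomial (Fin n) A₀
  let P := MvPolynomial (Fin n) A
  have hlift : ∀ g : P, (∀ d, coeff d g ≠ 0 → coeff d g ∈ cs) → ∃ g₀ : P₀, algebraMap P₀ P g₀ = g := fun g hg => by
    refine ⟨∑ d ∈ g.support.attach, monomial d.1 (⟨coeff d.1 g, Algebra.subset_adjoin (hg d.1 (MvPolynomial.mem_support_iff.1 d.2))⟩ : A₀), ?_⟩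
    rw [map_sum]
    conv_rhs => rw [g.as_sum, ← Finset.sum_attach]
    refine Finset.sum_congr rfl fun d _ => ?_
    rw [MvPolynomial.algebraMap_def, MvPolynomial.map_monomial]
    rfl
  obtain ⟨f₀, hf₀⟩ := hlift f fun d hd =>
    Finset.mem_union_right _ (Finset.mem_image_of_mem _ (MvPolynomial.mem_support_iff.2 hd))
  have hg : ∀ g : {g // g ∈ G}, ∀ i, ∃ g₀ : P₀, algebraMap P₀ P g₀ = g.1 i := fun g i => hlift _ fun d hd =>
    Finset.mem_union_left _ (Finset.mem_biUnion.2 ⟨g.1, g.2, Finset.mem_biUnion.2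
      ⟨i, Finset.mem_univ _, Finset.mem_image_of_mem _ (MvPolynomial.mem_support_iff.2 hd)⟩⟩)
  choose g₀ hg₀ using hg
  let ι : (Fin m → P₀) →ₗ[P₀] (Fin m → P) := LinearMap.pi fun i => Algebra.linearMap P₀ P ∘ₗ LinearMap.proj i
  letI : Module P₀ N := Module.compHom N (algebraMap P₀ P)
  haveI : IsScalarTower P₀ P N := .of_algebraMap_smul fun _ _ => rfl
  let K : Submodule P₀ (Fin m → P₀) := Submodule.span P₀ (Set.range g₀)
  let M₀ := (Fin m → P₀) ⧸ K
  have hK : K ≤ LinearMap.ker ((π.restrictScalars P₀) ∘ₗ ι) := Submodule.span_le.2 <| by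
    rintro _ ⟨g, rfl⟩
    show π (ι (g₀ g)) = 0
    rw [show ι (g₀ g) = g.1 from funext fun i => hg₀ g i]
    exact LinearMap.mem_ker.1 (hG.le (Submodule.subset_span g.2))
  let j₀ : M₀ →ₗ[P₀] N := K.liftQ _ hK
  have hb : IsBaseChange P j₀ := by
    refine IsBaseChange.of_lift_unique _ fun Q _ _ _ _ φ => ?_
    letI : AddCommGroup Q := Module.addCommMonoidToAddCommGroup P
    let Φ : (Fin m → P) →ₗ[P] Q := (Pi.basisFun P (Fin m)).constr P fun i => φ (Submodule.Quotient.mk (Pi.single i 1))
    have hΦ : (Φ.restrictScalars P₀) ∘ₗ ι = φ ∘ₗ K.mkQ := by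
      refine LinearMap.pi_ext' fun i => LinearMap.ext_ring ?_
      show Φ (ι (Pi.single i (1 : P₀))) = φ (Submodule.Quotient.mk (Pi.single i 1))
      rw [show ι (Pi.single i (1 : P₀)) = Pi.basisFun P (Fin m) i from funext fun l => by
        rw [Pi.basisFun_apply]
        rcases eq_or_ne l i with rfl | h
        · simp [ι]
        · simp [ι, Pi.single_eq_of_ne h], Module.Basis.constr_basis]
    have hker : LinearMap.ker π ≤ LinearMap.ker Φ := by
      rw [← hG, Submodule.span_le]
      intro g hgG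
      show Φ g = 0
      rw [← show ι (g₀ ⟨g, hgG⟩) = g from funext fun i => hg₀ ⟨g, hgG⟩ i]
      refine (LinearMap.congr_fun hΦ _).trans ?_
      rw [LinearMap.comp_apply, Submodule.mkQ_apply,
        (Submodule.Quotient.mk_eq_zero K).2 (Submodule.subset_span ⟨_, rfl⟩), map_zero]
    let g' : N →ₗ[P] Q := (LinearMap.ker π).liftQ Φ hker ∘ₗ (π.quotKerEquivOfSurjective hπ).symm.toLinearMap
    have hg' : ∀ x, g' (π x) = Φ x := fun x => by
      show (LinearMap.ker π).liftQ Φ hker ((π.quotKerEquivOfSurjective hπ).symm (π x)) = _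
      rw [show (π.quotKerEquivOfSurjective hπ).symm (π x) = Submodule.Quotient.mk x from
        (π.quotKerEquivOfSurjective hπ).symm_apply_eq.2 rfl]
      rfl
    refine ⟨g', ?_, fun g'' hg'' => ?_⟩
    · refine Submodule.linearMap_qext _ ?_
      rw [← hΦ]
      exact LinearMap.ext fun x => hg' (ι x)
    · have h1 : g'' ∘ₗ π = g' ∘ₗ π := (Pi.basisFun P (Fin m)).ext fun i => by
        have e : Pi.basisFun P (Fin m) i = ι (Pi.single i (1 : P₀)) := funext fun l => by
          rw [Pi.basisFun_apply]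
          rcases eq_or_ne l i with rfl | h
          · simp [ι]
          · simp [ι, Pi.single_eq_of_ne h]
        rw [LinearMap.comp_apply, LinearMap.comp_apply, hg', e]
        refine Eq.trans ?_ (LinearMap.congr_fun hΦ _).symm
        exact LinearMap.congr_fun hg'' (Submodule.Quotient.mk (Pi.single i 1))
      exact LinearMap.ext fun x => by
        obtain ⟨x, rfl⟩ := hπ x
        exact LinearMap.congr_fun h1 x
  letI : Module A₀ M₀ := inferInstance
  haveI : IsScalarTower A₀ P₀ N := .of_algebraMap_smul fun a x => by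
    show algebraMap P₀ P (algebraMap A₀ P₀ a) • x = (a : A) • x
    rw [← IsScalarTower.algebraMap_apply A₀ P₀ P, IsScalarTower.algebraMap_apply A₀ A P]
    exact algebraMap_smul P (a : A) x
  refine ⟨A₀, ⟨cs, rfl⟩, M₀, inferInstance, inferInstance, inferInstance, inferInstance, j₀.restrictScalars A₀,
    f₀, Module.Finite.quotient _ _, ?_, hf₀, fun g x => ?_⟩
  · refine IsBaseChange.of_equiv ((Algebra.IsPushout.cancelBaseChange A₀ A P₀ P M₀).symm.trans
      (hb.equiv.restrictScalars A)) fun x => ?_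
    show hb.equiv ((Algebra.IsPushout.cancelBaseChange A₀ A P₀ P M₀).symm ((1 : A) ⊗ₜ x)) = j₀ x
    rw [Algebra.IsPushout.cancelBaseChange_symm_tmul, map_one, IsBaseChange.equiv_tmul, one_smul]
  · show _ = j₀ (g • x)
    rw [map_smul]
    rfl

end Groth.Agent.FlatB12.Spreadout
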