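import Mathlib.Algebra.Module.Projective
import Mathlib.LinearAlgebra.TensorProduct.RightExactness
import Mathlib.LinearAlgebra.TensorProduct.Tower
import Mathlib.RingTheory.Flat.Basic
import Mathlib.RingTheory.IsTensorProduct
import Mathlib.LinearAlgebra.Basis.VectorSpace

/-!
# The torsion free quotient for an endomorphism, after extension of a field
-/

set_option autoImplicit false

universe u

open TensorProduct

namespace Groth.Agent.FlatB12.Spreadout

/-- Modulo the elements killed by a power of an endomorphism defined over a field, a base changed module is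
projective, and the endomorphism stays injective after tensoring. -/
theorem exists_torsionFree_quotient {k A₁ : Type u} [Field k] [CommRing A₁] [Algebra k A₁]
    {V : Type u} [AddCommGroup V] [Module k V] (τ : V →ₗ[k] V)
    {W : Type u} [AddCommGroup W] [Module k W] [Module A₁ W] [IsScalarTower k A₁ W]
    (j : V →ₗ[k] W) (hj : IsBaseChange A₁ j) (τW : W →ₗ[A₁] W) (hτ : ∀ v, τW (j v) = j (τ v)) :
    ∃ (F : Type u) (_ : AddCommGroup F) (_ : Module A₁ F) (q : W →ₗ[A₁] F) (σ : F →ₗ[A₁] F),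
      Module.Projective A₁ F ∧ Function.Surjective q ∧ q ∘ₗ τW = σ ∘ₗ q ∧
      (∀ w, q w = 0 ↔ w ∈ Submodule.span A₁ (j '' {v | ∃ i : ℕ, (τ ^ i) v = 0})) ∧
      ∀ (Q : Type u) [AddCommGroup Q] [Module A₁ Q], Function.Injective (σ.lTensor Q) := by
  classical
  let Γ : Submodule k V :=
    { carrier := {v | ∃ i : ℕ, (τ ^ i) v = 0}
      add_mem' := fun {a b} ⟨i, hi⟩ ⟨l, hl⟩ => ⟨i + l, by
        rw [map_add, add_comm i, pow_add, Module.End.mul_apply, Module.End.mul_apply, hi, map_zero, zero_add,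
          ← Module.End.mul_apply, ← pow_add, add_comm, pow_add, Module.End.mul_apply, hl, map_zero]⟩
      zero_mem' := ⟨0, map_zero _⟩
      smul_mem' := fun c v ⟨i, hi⟩ => ⟨i, by rw [map_smul, hi, smul_zero]⟩ }
  have hΓτ : Γ ≤ Γ.comap τ := fun v ⟨i, hi⟩ => ⟨i, by
    rw [← Module.End.mul_apply, ← pow_succ, pow_succ', Module.End.mul_apply, hi, map_zero]⟩
  let τ' : V ⧸ Γ →ₗ[k] V ⧸ Γ := Γ.mapQ Γ τ hΓτ
  have hτ' : Function.Injective τ' := (injective_iff_map_eq_zero _).2 fun x hx => by
    obtain ⟨v, rfl⟩ := Γ.mkQ_surjective x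
    obtain ⟨i, hi⟩ := (Submodule.Quotient.mk_eq_zero Γ).1 hx
    exact (Submodule.Quotient.mk_eq_zero Γ).2 ⟨i + 1, by rw [pow_succ, Module.End.mul_apply]; exact hi⟩
  let F := A₁ ⊗[k] (V ⧸ Γ)
  let σ : F →ₗ[A₁] F := τ'.baseChange A₁
  let q : W →ₗ[A₁] F := hj.lift ((TensorProduct.mk k A₁ (V ⧸ Γ) 1) ∘ₗ Γ.mkQ)
  have hq : ∀ v, q (j v) = 1 ⊗ₜ Γ.mkQ v := fun v => hj.lift_eq _ v
  have hqe : ∀ z : A₁ ⊗[k] V, q (hj.equiv z) = Γ.mkQ.baseChange A₁ z := fun z => by
    induction z with
    | zero => simp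
    | add a b ha hb => simp [ha, hb]
    | tmul a v =>
      rw [IsBaseChange.equiv_tmul, map_smul, hq, LinearMap.baseChange_tmul, smul_tmul', smul_eq_mul, mul_one]
  refine ⟨F, inferInstance, inferInstance, q, σ, inferInstance, fun x => ?_, hj.algHom_ext _ _ fun v => ?_,
    fun w => ⟨fun hw => ?_, fun hw => ?_⟩, fun Q _ _ => ?_⟩
  · obtain ⟨z, rfl⟩ := LinearMap.lTensor_surjective A₁ Γ.mkQ_surjective x
    exact ⟨hj.equiv z, hqe z⟩
  · rw [LinearMap.comp_apply, LinearMap.comp_apply, hτ, hq, hq]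
    rfl
  · obtain ⟨z, rfl⟩ := hj.equiv.surjective w
    rw [hqe] at hw
    obtain ⟨y, rfl⟩ := ((lTensor_exact A₁ (LinearMap.exact_subtype_mkQ Γ) Γ.mkQ_surjective) z).1 hw
    clear hw
    induction y with
    | zero => simp
    | add a b ha hb => rw [map_add, map_add]; exact add_mem ha hb
    | tmul a v =>
      rw [LinearMap.lTensor_tmul, IsBaseChange.equiv_tmul]
      exact Submodule.smul_mem _ _ (Submodule.subset_span ⟨v.1, v.2, rfl⟩)
  · refine LinearMap.mem_ker.1 ((Submodule.span_le.2 ?_ : Submodule.span A₁ _ ≤ LinearMap.ker q) hw)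
    rintro _ ⟨v, hv, rfl⟩
    show q (j v) = 0
    rw [hq, Submodule.mkQ_apply, (Submodule.Quotient.mk_eq_zero Γ).2 hv, tmul_zero]
  · letI : Module k Q := Module.compHom Q (algebraMap k A₁)
    haveI : IsScalarTower k A₁ Q := .of_algebraMap_smul fun _ _ => rfl
    have h : ∀ z : Q ⊗[A₁] F, (TensorProduct.AlgebraTensorModule.cancelBaseChange k A₁ A₁ Q (V ⧸ Γ)) (σ.lTensor Q z) =
        τ'.lTensor Q ((TensorProduct.AlgebraTensorModule.cancelBaseChange k A₁ A₁ Q (V ⧸ Γ)) z) := fun z => by
      induction z with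
      | zero => simp
      | add a b ha hb => simp only [map_add, ha, hb]
      | tmul x y =>
        induction y using TensorProduct.induction_on with
        | zero => simp
        | add a b ha hb => simp only [tmul_add, map_add, ha, hb]
        | tmul a v =>
          rw [LinearMap.lTensor_tmul]
          show _ = τ'.lTensor Q _
          erw [LinearMap.baseChange_tmul, TensorProduct.AlgebraTensorModule.cancelBaseChange_tmul]
    refine (injective_iff_map_eq_zero _).2 fun z hz => ?_
    refine (TensorProduct.AlgebraTensorModule.cancelBaseChange k A₁ A₁ Q (V ⧸ Γ)).injective ?_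
    rw [map_zero]
    exact Module.Flat.lTensor_preserves_injective_linearMap τ' hτ' (by rw [← h, hz, map_zero, map_zero])

end Groth.Agent.FlatB12.Spreadout
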