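import Groth.Agent.FlatB12.Spreadout.Quotient
import Groth.Agent.FlatB12.ProjUI
import Groth.Agent.FlatModel.Local
import Groth.Agent.RGCore.FiniteAt
import Mathlib.Algebra.Module.FinitePresentation
import Mathlib.RingTheory.Localization.BaseChange
import Mathlib.RingTheory.Polynomial.Basic

/-!
# Pure spreadouts when the base change is defined over a field
-/

set_option autoImplicit false
set_option linter.style.haveILetI false
set_option linter.unusedSectionVars false

universe u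

open TensorProduct

namespace Groth.Agent.FlatB12.Spreadout

set_option maxHeartbeats 1600000 in
/-- If the base change of a model is defined over a field and one element bounds the torsion on the closed fibres,
there is a pure spreadout. -/
theorem hasPureSpreadout {A B : Type u} [CommRing A] [CommRing B] [Algebra A B]
    (T : Submonoid B) {N : Type u} [AddCommGroup N] [Module (Localization T) N] [Module B N] [Module A N]
    [IsScalarTower B (Localization T) N] [IsScalarTower A B N]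
    {NB : Type u} [AddCommGroup NB] [Module B NB] [Module A NB] [IsScalarTower A B NB]
    [Module.FinitePresentation B NB] (l : NB →ₗ[B] N) [IsLocalizedModule T l]
    {A₀ : Type u} [CommRing A₀] [IsNoetherianRing A₀] [Algebra A₀ A] [Module A₀ NB] [IsScalarTower A₀ A NB] {n : ℕ}
    {M₀ : Type u} [AddCommGroup M₀] [Module A₀ M₀] [Module (MvPolynomial (Fin n) A₀) M₀]
    [IsScalarTower A₀ (MvPolynomial (Fin n) A₀) M₀] [Module.Finite (MvPolynomial (Fin n) A₀) M₀]
    (j : M₀ →ₗ[A₀] NB) (hj : IsBaseChange A j) (ψ : MvPolynomial (Fin n) A₀ → B)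
    (hψ : ∀ g x, j (g • x) = ψ g • j x) (f₀ : MvPolynomial (Fin n) A₀) (hf₀ : ψ f₀ ∈ T)
    {k A₁ : Type u} [Field k] [CommRing A₁] [Algebra A₀ k] [Algebra k A₁] [Algebra A₀ A₁] [IsScalarTower A₀ k A₁]
    [Algebra A A₁] [IsScalarTower A₀ A A₁]
    (hk : ∀ c : k, ∃ a s : A₀, algebraMap A₀ k s ≠ 0 ∧ algebraMap A₀ k s * c = algebraMap A₀ k a)
    (hbound : ∀ (P : Ideal A₁) [P.IsMaximal], ∀ t ∈ T, ∀ z : (A₁ ⧸ P) ⊗[A] NB,
      ((LinearMap.lsmul B NB t).restrictScalars A).lTensor (A₁ ⧸ P) z = 0 →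
      ((LinearMap.lsmul B NB (ψ f₀)).restrictScalars A).lTensor (A₁ ⧸ P) z = 0)
    {B₁ N₁ : Type u} [CommRing B₁] [Algebra B B₁] [Algebra A₁ B₁] [Algebra A B₁]
    [IsScalarTower A B B₁] [IsScalarTower A A₁ B₁] [Algebra.IsPushout A B A₁ B₁]
    [AddCommGroup N₁] [Module (Localization (T.map (algebraMap B B₁))) N₁] [Module A₁ N₁]
    [IsScalarTower A₁ (Localization (T.map (algebraMap B B₁))) N₁]
    [Module B N₁] [IsScalarTower B (Localization (T.map (algebraMap B B₁))) N₁]
    [Module A N₁] [IsScalarTower A A₁ N₁] [IsScalarTower A B N₁]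
    (h : N →ₗ[B] N₁) (hh : IsBaseChange A₁ (h.restrictScalars A)) :
    FlatCA.HasPureSpreadout A₁ B₁ (T.map (algebraMap B B₁)) N₁ := by
  classical
  haveI : SMulCommClass B A₁ B₁ := ⟨fun b a x => by simp only [Algebra.smul_def, mul_left_comm]⟩
  haveI : Algebra.IsPushout A A₁ B B₁ := Algebra.IsPushout.symm inferInstance
  let T₁ := T.map (algebraMap B B₁)
  let LT := Localization T₁
  let W := B₁ ⊗[B] NB
  letI : Module A₀ W := Module.compHom W (algebraMap A₀ A₁)
  haveI : IsScalarTower A₀ A₁ W := .of_algebraMap_smul fun _ _ => rfl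
  haveI : IsScalarTower A₀ A W := .of_algebraMap_smul fun a w => by
    show algebraMap A₀ A a • w = algebraMap A₀ A₁ a • w
    rw [IsScalarTower.algebraMap_apply A₀ A A₁]
    exact (algebraMap_smul A₁ _ w).symm
  let l₁ : NB →ₗ[B] W := TensorProduct.mk B B₁ NB 1
  have hl₁ : IsBaseChange A₁ (l₁.restrictScalars A) :=
    IsBaseChange.of_equiv (Algebra.IsPushout.cancelBaseChange A A₁ B B₁ NB).symm fun x => by
      rw [Algebra.IsPushout.cancelBaseChange_symm_tmul, map_one]
      rfl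
  let jW : M₀ →ₗ[A₀] W := ((l₁.restrictScalars A).restrictScalars A₀) ∘ₗ j
  have hjW : IsBaseChange A₁ jW := hj.comp hl₁
  let t : B₁ := algebraMap B B₁ (ψ f₀)
  have ht : t ∈ T₁ := Submonoid.mem_map_of_mem _ hf₀
  have hjψ : ∀ g x, jW (g • x) = algebraMap B B₁ (ψ g) • jW x := fun g x => by
    show l₁ (j (g • x)) = algebraMap B B₁ (ψ g) • l₁ (j x)
    rw [hψ, map_smul, algebraMap_smul]
  let τ₀ : M₀ →ₗ[A₀] M₀ := (LinearMap.lsmul (MvPolynomial (Fin n) A₀) M₀ f₀).restrictScalars A₀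
  let τW : W →ₗ[A₁] W := (LinearMap.lsmul B₁ W t).restrictScalars A₁
  have hpow : ∀ (i : ℕ) w, (τW ^ i) w = t ^ i • w := fun i w => by
    induction i with
    | zero => simp
    | succ i ih => rw [pow_succ', Module.End.mul_apply, ih, pow_succ', mul_smul]; rfl
  obtain ⟨F, _, _, q, σ, hF, hq, hcomm, hker, hspan, hσ⟩ :=
    exists_projective_quotient hk jW hjW τ₀ τW fun x => (hjψ f₀ x).symm
  let K : Submodule B₁ W :=
    { carrier := {w | ∃ i : ℕ, t ^ i • w = 0}
      add_mem' := fun {a b} ⟨i, hi⟩ ⟨m, hm⟩ => ⟨i + m, by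
        rw [smul_add, pow_add, mul_smul (t ^ i) (t ^ m) b, hm, smul_zero, mul_comm, mul_smul, hi, smul_zero,
          add_zero]⟩
      zero_mem' := ⟨0, smul_zero _⟩
      smul_mem' := fun c v ⟨i, hi⟩ => ⟨i, by rw [smul_comm, hi, smul_zero]⟩ }
  have hK : ∀ w, w ∈ K ↔ q w = 0 := fun w => by
    rw [hker]
    exact exists_congr fun i => by rw [hpow]
  let Γ : Submodule (MvPolynomial (Fin n) A₀) M₀ :=
    { carrier := {x | jW x ∈ K}
      add_mem' := fun {a b} ha hb => show jW (a + b) ∈ K by rw [map_add]; exact add_mem ha hb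
      zero_mem' := show jW 0 ∈ K by rw [map_zero]; exact zero_mem _
      smul_mem' := fun g x hx => show jW (g • x) ∈ K by rw [hjψ]; exact K.smul_mem _ hx }
  obtain ⟨G, hG⟩ := IsNoetherian.noetherian Γ
  have hKfg : K.FG := by
    refine ⟨G.image jW, le_antisymm (Submodule.span_le.2 ?_) fun w hw => ?_⟩
    · intro w hw
      obtain ⟨x, hx, rfl⟩ := Finset.mem_image.1 hw
      exact (hG.le (Submodule.subset_span hx) : x ∈ Γ)
    · refine (Submodule.span_le.2 ?_ :
        _ ≤ (Submodule.span B₁ (↑(G.image jW) : Set W)).restrictScalars A₁) (hspan w ((hK w).1 hw))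
      rintro _ ⟨x, hx, rfl⟩
      have hxG : x ∈ Submodule.span (MvPolynomial (Fin n) A₀) (G : Set M₀) := hG.ge ((hK _).2 hx)
      clear hx hw
      induction hxG using Submodule.span_induction with
      | mem y hy => exact Submodule.subset_span (Finset.mem_image_of_mem _ hy)
      | zero => rw [map_zero]; exact zero_mem _
      | add a b _ _ ha hb => rw [map_add]; exact add_mem ha hb
      | smul g y _ hy => rw [hjψ]; exact Submodule.smul_mem (Submodule.span B₁ _) _ hy
  haveI : Module.FinitePresentation B₁ (W ⧸ K) :=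
    Module.finitePresentation_of_surjective K.mkQ K.mkQ_surjective (by rw [Submodule.ker_mkQ]; exact hKfg)
  let e : (W ⧸ K) ≃ₗ[A₁] F := (Submodule.Quotient.restrictScalarsEquiv A₁ K).symm.trans
    ((Submodule.quotEquivOfEq (K.restrictScalars A₁) (LinearMap.ker q) (Submodule.ext fun w => hK w)).trans
      (q.quotKerEquivOfSurjective hq))
  haveI : Module.Projective A₁ (W ⧸ K) := Module.Projective.of_equiv e.symm
  let τK : (W ⧸ K) →ₗ[A₁] (W ⧸ K) := (LinearMap.lsmul B₁ (W ⧸ K) t).restrictScalars A₁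
  have hτK : ∀ (Q : Type u) [AddCommGroup Q] [Module A₁ Q], Function.Injective (τK.lTensor Q) := by
    intro Q _ _
    refine (injective_iff_map_eq_zero _).2 fun z hz => (e.lTensor Q).injective ?_
    have he : ∀ z, σ.lTensor Q (e.lTensor Q z) = e.lTensor Q (τK.lTensor Q z) := fun z => by
      induction z with
      | zero => simp
      | add a b ha hb => simp only [map_add, ha, hb]
      | tmul a x =>
        obtain ⟨w, rfl⟩ := K.mkQ_surjective x
        simp only [LinearEquiv.lTensor_tmul, LinearMap.lTensor_tmul]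
        congr 1
        exact (LinearMap.congr_fun hcomm w).symm
    rw [map_zero]
    exact hσ Q (by rw [he, hz, map_zero, map_zero])
  -- the localised module
  letI : Module B₁ N₁ := Module.compHom N₁ (algebraMap B₁ LT)
  haveI : IsScalarTower B₁ LT N₁ := .of_algebraMap_smul fun _ _ => rfl
  haveI : IsScalarTower A₁ B₁ N₁ := .of_algebraMap_smul fun a x => by
    show algebraMap B₁ LT (algebraMap A₁ B₁ a) • x = a • x
    rw [← IsScalarTower.algebraMap_apply, algebraMap_smul]
  haveI : IsScalarTower B B₁ N₁ := .of_algebraMap_smul fun b x => by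
    show algebraMap B₁ LT (algebraMap B B₁ b) • x = b • x
    rw [← IsScalarTower.algebraMap_apply, algebraMap_smul]
  have hunit : ∀ s : T₁, Function.Bijective fun x : N₁ => (s : B₁) • x := fun s => by
    have hu := IsLocalization.map_units LT s
    show Function.Bijective fun x : N₁ => algebraMap B₁ LT s • x
    exact ⟨fun x y hxy => hu.smul_left_cancel.1 hxy, fun y => ⟨(↑hu.unit⁻¹ : LT) • y, by
      show algebraMap B₁ LT s • (↑hu.unit⁻¹ : LT) • y = y
      rw [smul_smul, IsUnit.mul_val_inv, one_smul]⟩⟩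
  let G₁ : W →ₗ[B₁] N₁ := (h ∘ₗ l).liftBaseChange B₁
  have hG₁ : ∀ x, G₁ (l₁ x) = h (l x) := fun x => by
    show G₁ ((1 : B₁) ⊗ₜ x) = _
    rw [LinearMap.liftBaseChange_tmul, one_smul]
    rfl
  have hKG : K ≤ LinearMap.ker G₁ := fun w ⟨i, hi⟩ => (hunit ⟨t ^ i, pow_mem ht i⟩).1 <| by
    show t ^ i • G₁ w = t ^ i • (0 : N₁)
    rw [← map_smul, hi, map_zero, smul_zero]
  let g : (W ⧸ K) →ₗ[B₁] N₁ := K.liftQ G₁ hKG
  let WT := LT ⊗[B₁] W
  let mkT : W →ₗ[B₁] WT := TensorProduct.mk B₁ LT W 1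
  haveI : IsLocalizedModule T₁ mkT :=
    (isLocalizedModule_iff_isBaseChange T₁ LT mkT).2 (TensorProduct.isBaseChange B₁ W LT)
  let mkB : NB →ₗ[B] WT := (mkT.restrictScalars B) ∘ₗ l₁
  let h₂ : N →ₗ[B] WT := IsLocalizedModule.lift T l mkB fun s => (Module.End.isUnit_iff _).2 (by
    have hu := IsLocalization.map_units LT (⟨algebraMap B B₁ s, Submonoid.mem_map_of_mem _ s.2⟩ : T₁)
    show Function.Bijective fun y : WT => (s : B) • y
    have hs : (fun y : WT => (s : B) • y) = fun y => algebraMap B₁ LT (algebraMap B B₁ s) • y := funext fun y => by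
      rw [← IsScalarTower.algebraMap_apply, algebraMap_smul]
    rw [hs]
    exact ⟨fun x y hxy => hu.smul_left_cancel.1 hxy, fun y => ⟨(↑hu.unit⁻¹ : LT) • y, by
      show algebraMap B₁ LT (algebraMap B B₁ s) • (↑hu.unit⁻¹ : LT) • y = y
      rw [smul_smul, IsUnit.mul_val_inv, one_smul]⟩⟩)
  let back : N₁ →ₗ[A₁] WT := hh.lift (h₂.restrictScalars A)
  have hback : ∀ w, back (G₁ w) = mkT w := fun w => by
    refine LinearMap.congr_fun (hl₁.algHom_ext (back ∘ₗ G₁.restrictScalars A₁) (mkT.restrictScalars A₁) fun x => ?_) w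
    show back (G₁ (l₁ x)) = mkT (l₁ x)
    rw [hG₁, show back (h (l x)) = h₂ (l x) from hh.lift_eq _ (l x), IsLocalizedModule.lift_apply]
    rfl
  haveI hgloc : IsLocalizedModule T₁ g :=
    { map_units := fun s => (Module.End.isUnit_iff _).2 (hunit s)
      surj := fun y => by
        refine hh.inductionOn y (fun y => ∃ x : (W ⧸ K) × T₁, x.2 • y = g x.1) ?_ ?_ ?_ ?_
        · exact ⟨⟨0, 1⟩, by simp⟩
        · intro m
          obtain ⟨⟨x, s⟩, hx⟩ := IsLocalizedModule.surj T l m
          refine ⟨⟨K.mkQ (l₁ x), ⟨algebraMap B B₁ s, Submonoid.mem_map_of_mem _ s.2⟩⟩, ?_⟩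
          show algebraMap B B₁ s • h m = G₁ (l₁ x)
          rw [hG₁, algebraMap_smul, ← map_smul]
          exact congrArg h hx
        · rintro a y ⟨⟨x, s⟩, hx⟩
          refine ⟨⟨a • x, s⟩, ?_⟩
          show (s : B₁) • a • y = g (a • x)
          rw [smul_comm, LinearMap.map_smul_of_tower]
          exact congrArg (a • ·) hx
        · rintro y z ⟨⟨x, s⟩, hx⟩ ⟨⟨x', s'⟩, hx'⟩
          refine ⟨⟨(s' : B₁) • x + (s : B₁) • x', s * s'⟩, ?_⟩
          simp only [Submonoid.smul_def] at hx hx'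
          show ((s : B₁) * s') • (y + z) = g _
          rw [smul_add, map_add, map_smul, map_smul, ← hx, ← hx', smul_smul, smul_smul, mul_comm (s' : B₁)]
      exists_of_eq := fun {x₁ x₂} hx => by
        obtain ⟨w₁, rfl⟩ := K.mkQ_surjective x₁
        obtain ⟨w₂, rfl⟩ := K.mkQ_surjective x₂
        have hw : G₁ w₁ = G₁ w₂ := hx
        obtain ⟨c, hc⟩ := IsLocalizedModule.exists_of_eq (S := T₁) (f := mkT)
          (by rw [← hback, ← hback, hw] : mkT w₁ = mkT w₂)
        exact ⟨c, congrArg K.mkQ hc⟩ }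
  haveI : Module.Flat A₁ N₁ := (FlatModel.flat_localized_iff T₁ g).2 fun J y hy => ⟨1, one_mem _, by
    rw [one_smul]
    exact Module.Flat.lTensor_preserves_injective_linearMap (M := W ⧸ K) J.subtype Subtype.val_injective
      (hy.trans (map_zero _).symm)⟩
  have hUI : FlatCA.UnivInj A₁ (g.restrictScalars A₁) := by
    refine univInj_of_projective_of_flat _ fun P _ => (injective_iff_map_eq_zero _).2 fun z hz => ?_
    obtain ⟨s, hs, hsz⟩ := RGCore.exists_smul_eq_zero_of_lTensor T₁ g z hz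
    obtain ⟨b, hb, rfl⟩ := Submonoid.mem_map.1 hs
    obtain ⟨y, rfl⟩ := LinearMap.lTensor_surjective (A₁ ⧸ P) (g := K.mkQ.restrictScalars A₁)
      K.mkQ_surjective z
    let ℓ : B₁ → ((A₁ ⧸ P) ⊗[A₁] W →ₗ[A₁] (A₁ ⧸ P) ⊗[A₁] W) := fun c =>
      ((LinearMap.lsmul B₁ W c).restrictScalars A₁).lTensor (A₁ ⧸ P)
    rw [← RGCore.lTensor_lsmul_map] at hsz
    obtain ⟨i, hi⟩ : ∃ i : ℕ, ℓ (t ^ i) (ℓ (algebraMap B B₁ b) y) = 0 := by
      obtain ⟨S, hS⟩ := hKfg
      choose m hm using fun x : S => (hS.le (Submodule.subset_span x.2) : x.1 ∈ K)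
      have hKi : K ≤ LinearMap.ker (LinearMap.lsmul B₁ W (t ^ ∑ x, m x)) := by
        refine hS.ge.trans (Submodule.span_le.2 fun w hw => ?_)
        show t ^ (∑ x, m x) • w = 0
        rw [← Finset.sum_erase_add _ _ (Finset.mem_univ (⟨w, hw⟩ : S)), pow_add, mul_smul, hm, smul_zero]
      refine ⟨∑ x, m x, ?_⟩
      show ((LinearMap.lsmul B₁ W (t ^ ∑ x, m x)).restrictScalars A₁).lTensor (A₁ ⧸ P) _ = 0
      rw [show (LinearMap.lsmul B₁ W (t ^ ∑ x, m x)).restrictScalars A₁ =
        ((K.liftQ _ hKi).restrictScalars A₁) ∘ₗ (K.mkQ.restrictScalars A₁) from rfl, LinearMap.lTensor_comp_apply,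
        hsz, map_zero]
    -- comparison with the model
    let c : (A₁ ⧸ P) ⊗[A₁] W ≃ₗ[A₁] (A₁ ⧸ P) ⊗[A] NB := hl₁.tensorEquiv (A₁ ⧸ P)
    have hc : ∀ (d : B) (v : (A₁ ⧸ P) ⊗[A₁] W),
        c (ℓ (algebraMap B B₁ d) v) = ((LinearMap.lsmul B NB d).restrictScalars A).lTensor (A₁ ⧸ P) (c v) := by
      intro d v
      induction v with
      | zero => simp
      | add a b ha hb => simp only [map_add, ha, hb]
      | tmul a w =>
        induction w using hl₁.inductionOn with
        | zero => simp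
        | add x y hx hy => simp only [tmul_add, map_add, hx, hy]
        | smul r x hx =>
          rw [tmul_smul, map_smul, map_smul, hx, map_smul]
          induction c (a ⊗ₜ x) with
          | zero => simp
          | add p q hp hq => simp only [map_add, smul_add, hp, hq]
          | tmul p q => simp [smul_tmul']
        | tmul x =>
          have hcx : ∀ x : NB, c (a ⊗ₜ l₁ x) = a ⊗ₜ x := fun x => by
            have : hl₁.equiv.symm (l₁ x) = 1 ⊗ₜ x := hl₁.equiv_symm_apply x
            show AlgebraTensorModule.cancelBaseChange A A₁ A₁ (A₁ ⧸ P) NB (a ⊗ₜ hl₁.equiv.symm (l₁ x)) = _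
            rw [this, AlgebraTensorModule.cancelBaseChange_tmul, one_smul]
          show c (a ⊗ₜ (algebraMap B B₁ d • l₁ x)) = _
          rw [algebraMap_smul, ← map_smul, LinearMap.coe_restrictScalars, hcx, hcx]
          rfl
    have h0 : c (ℓ (algebraMap B B₁ (ψ f₀)) y) = 0 := by
      rw [hc]
      refine hbound P (ψ f₀ ^ i * b) (mul_mem (pow_mem hf₀ i) hb) (c y) ?_
      rw [RGCore.lTensor_lsmul_mul, ← hc, ← hc, map_pow]
      show c (ℓ (t ^ i) _) = 0
      rw [hi, map_zero]
    refine hτK (A₁ ⧸ P) ?_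
    rw [map_zero]
    show ((LinearMap.lsmul B₁ (W ⧸ K) t).restrictScalars A₁).lTensor (A₁ ⧸ P) _ = 0
    rw [← RGCore.lTensor_lsmul_map, show ((LinearMap.lsmul B₁ W t).restrictScalars A₁).lTensor (A₁ ⧸ P) y = 0 from
      (LinearEquiv.map_eq_zero_iff c).1 h0, map_zero]
  refine ⟨B₁, inferInstance, Algebra.id B₁, inferInstance, IsScalarTower.right, inferInstance,
    IsScalarTower.of_algebraMap_eq fun _ => rfl, inferInstance, inferInstance, inferInstance, inferInstance,
    W ⧸ K, inferInstance, inferInstance, inferInstance, inferInstance, g, ?_, inferInstance,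
    IsLocalizedModule.isBaseChange T₁ LT g, inferInstance, hUI⟩
  rw [Algebra.algebraMap_self]
  show AlgebraicGeometry.IsOpenImmersion (AlgebraicGeometry.Spec.map (CategoryTheory.CategoryStruct.id (CommRingCat.of B₁)))
  rw [AlgebraicGeometry.Spec.map_id]
  infer_instance

end Groth.Agent.FlatB12.Spreadout

namespace Groth.Agent.FlatB12.Spreadout

/-- An algebra killing a prime, with the complement acting invertibly, is an algebra over the residue field. -/
theorem exists_field_factor {A₀ A₁ : Type u} [CommRing A₀] [CommRing A₁] [Algebra A₀ A₁] (p₀ : Ideal A₀) [p₀.IsPrime]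
    (h0 : ∀ a ∈ p₀, algebraMap A₀ A₁ a = 0) (hu : ∀ a, a ∉ p₀ → IsUnit (algebraMap A₀ A₁ a)) :
    ∃ (k : Type u) (_ : Field k) (_ : Algebra A₀ k) (_ : Algebra k A₁) (_ : IsScalarTower A₀ k A₁),
      ∀ c : k, ∃ a s : A₀, algebraMap A₀ k s ≠ 0 ∧ algebraMap A₀ k s * c = algebraMap A₀ k a := by
  let k := FractionRing (A₀ ⧸ p₀)
  have hu' : ∀ y : nonZeroDivisors (A₀ ⧸ p₀), IsUnit (Ideal.Quotient.lift p₀ (algebraMap A₀ A₁) h0 y) := by
    rintro ⟨y, hy⟩
    obtain ⟨a, rfl⟩ := Ideal.Quotient.mk_surjective y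
    exact hu a fun ha => nonZeroDivisors.ne_zero hy (Ideal.Quotient.eq_zero_iff_mem.2 ha)
  letI : Algebra k A₁ := (IsLocalization.lift hu').toAlgebra
  haveI : IsScalarTower A₀ k A₁ := .of_algebraMap_eq fun a => by
    rw [RingHom.algebraMap_toAlgebra, IsScalarTower.algebraMap_apply A₀ (A₀ ⧸ p₀) k, IsLocalization.lift_eq]
    rfl
  refine ⟨k, inferInstance, inferInstance, inferInstance, inferInstance, fun c => ?_⟩
  obtain ⟨⟨a, s, hs⟩, hc⟩ := IsLocalization.surj (nonZeroDivisors (A₀ ⧸ p₀)) c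
  obtain ⟨a, rfl⟩ := Ideal.Quotient.mk_surjective a
  obtain ⟨s, rfl⟩ := Ideal.Quotient.mk_surjective s
  refine ⟨a, s, ?_, ?_⟩
  · rw [IsScalarTower.algebraMap_apply A₀ (A₀ ⧸ p₀) k]
    exact IsFractionRing.to_map_ne_zero_of_mem_nonZeroDivisors hs
  · rw [IsScalarTower.algebraMap_apply A₀ (A₀ ⧸ p₀) k, mul_comm]
    exact hc

end Groth.Agent.FlatB12.Spreadout
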