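import Groth.Agent.FlatB12.Spreadout.Field
import Mathlib.RingTheory.Localization.FractionRing

/-!
# The quotient by the torsion of an endomorphism of a module defined over a domain
-/

set_option autoImplicit false
set_option linter.style.haveILetI false

universe u

open TensorProduct

namespace Groth.Agent.FlatB12.Spreadout

theorem exists_projective_quotient {A₀ k A₁ : Type u} [CommRing A₀] [Field k] [CommRing A₁] [Algebra A₀ k]
    [Algebra k A₁] [Algebra A₀ A₁] [IsScalarTower A₀ k A₁]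
    (hk : ∀ c : k, ∃ a s : A₀, algebraMap A₀ k s ≠ 0 ∧ algebraMap A₀ k s * c = algebraMap A₀ k a)
    {M₀ : Type u} [AddCommGroup M₀] [Module A₀ M₀] {W : Type u} [AddCommGroup W] [Module A₁ W] [Module A₀ W]
    [IsScalarTower A₀ A₁ W] (jW : M₀ →ₗ[A₀] W) (hj : IsBaseChange A₁ jW) (τ₀ : M₀ →ₗ[A₀] M₀)
    (τW : W →ₗ[A₁] W) (hτ : ∀ x, τW (jW x) = jW (τ₀ x)) :
    ∃ (F : Type u) (_ : AddCommGroup F) (_ : Module A₁ F) (q : W →ₗ[A₁] F) (σ : F →ₗ[A₁] F),
      Module.Projective A₁ F ∧ Function.Surjective q ∧ q ∘ₗ τW = σ ∘ₗ q ∧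
      (∀ w, q w = 0 ↔ ∃ i : ℕ, (τW ^ i) w = 0) ∧
      (∀ w, q w = 0 → w ∈ Submodule.span A₁ (jW '' {x | q (jW x) = 0})) ∧
      ∀ (Q : Type u) [AddCommGroup Q] [Module A₁ Q], Function.Injective (σ.lTensor Q) := by
  classical
  letI : Module k W := Module.compHom W (algebraMap k A₁)
  haveI : IsScalarTower k A₁ W := .of_algebraMap_smul fun _ _ => rfl
  haveI : IsScalarTower A₀ k W := .of_algebraMap_smul fun a w => by
    show algebraMap k A₁ (algebraMap A₀ k a) • w = a • w
    rw [← IsScalarTower.algebraMap_apply, algebraMap_smul]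
  let V := k ⊗[A₀] M₀
  let jV : V →ₗ[k] W := jW.liftBaseChange k
  have hjV1 : ∀ x, jV (1 ⊗ₜ x) = jW x := fun x => by rw [LinearMap.liftBaseChange_tmul, one_smul]
  have hjV : IsBaseChange A₁ jV :=
    IsBaseChange.of_comp (TensorProduct.isBaseChange A₀ M₀ k)
      (by rw [show jV.restrictScalars A₀ ∘ₗ TensorProduct.mk A₀ k M₀ 1 = jW from LinearMap.ext hjV1]; exact hj)
  let τ : V →ₗ[k] V := τ₀.baseChange k
  have hτV : ∀ v, τW (jV v) = jV (τ v) := fun v => by
    induction v using TensorProduct.induction_on with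
    | zero => simp
    | add a b ha hb => simp [ha, hb]
    | tmul c x =>
      have : (c ⊗ₜ[A₀] x : V) = c • (1 ⊗ₜ x) := by rw [smul_tmul', smul_eq_mul, mul_one]
      rw [this, map_smul jV, map_smul τ, map_smul jV, LinearMap.map_smul_of_tower, hjV1, hτ,
        LinearMap.baseChange_tmul, hjV1]
  have hpow : ∀ (i : ℕ) v, (τW ^ i) (jV v) = jV ((τ ^ i) v) := fun i v => by
    induction i with
    | zero => simp
    | succ i ih => rw [pow_succ', pow_succ', Module.End.mul_apply, Module.End.mul_apply, ih, hτV]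
  obtain ⟨F, _, _, q, σ, hF, hq, hcomm, hker, hσ⟩ := exists_torsionFree_quotient τ jV hjV τW hτV
  have hσinj : Function.Injective σ := fun x y h => by
    have := hσ A₁ (a₁ := (1 : A₁) ⊗ₜ x) (a₂ := (1 : A₁) ⊗ₜ y) (by simp [h])
    simpa using congrArg (TensorProduct.lid A₁ F) this
  have hqi : ∀ (i : ℕ) w, q ((τW ^ i) w) = (σ ^ i) (q w) := fun i w => by
    induction i with
    | zero => simp
    | succ i ih =>
      rw [pow_succ', pow_succ', Module.End.mul_apply, Module.End.mul_apply, ← ih]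
      exact LinearMap.congr_fun hcomm _
  have hden : ∀ v : V, ∃ (s : A₀) (x : M₀), algebraMap A₀ k s ≠ 0 ∧ algebraMap A₀ k s • v = 1 ⊗ₜ x := fun v => by
    induction v using TensorProduct.induction_on with
    | zero => exact ⟨1, 0, by simp, by simp⟩
    | add a b ha hb =>
      obtain ⟨s, x, hs, hx⟩ := ha
      obtain ⟨t, y, ht, hy⟩ := hb
      refine ⟨s * t, t • x + s • y, by rw [map_mul]; exact mul_ne_zero hs ht, ?_⟩
      rw [smul_add, tmul_add, map_mul, mul_comm, mul_smul, hx, algebraMap_smul, ← tmul_smul, mul_comm, mul_smul,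
        hy, algebraMap_smul, ← tmul_smul]
    | tmul c x =>
      obtain ⟨a, s, hs, hca⟩ := hk c
      exact ⟨s, a • x, hs, by rw [smul_tmul', smul_eq_mul, hca, Algebra.algebraMap_eq_smul_one, smul_tmul]⟩
  refine ⟨F, inferInstance, inferInstance, q, σ, hF, hq, hcomm, fun w => ⟨fun hw => ?_, fun ⟨i, hi⟩ => ?_⟩,
    fun w hw => ?_, hσ⟩
  · let K : Submodule A₁ W :=
      { carrier := {w | ∃ i : ℕ, (τW ^ i) w = 0}
        add_mem' := fun {a b} ⟨i, hi⟩ ⟨l, hl⟩ => ⟨i + l, by
          rw [map_add, add_comm i, pow_add, Module.End.mul_apply, Module.End.mul_apply, hi, map_zero, zero_add,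
            ← Module.End.mul_apply, ← pow_add, add_comm, pow_add, Module.End.mul_apply, hl, map_zero]⟩
        zero_mem' := ⟨0, map_zero _⟩
        smul_mem' := fun c v ⟨i, hi⟩ => ⟨i, by rw [map_smul, hi, smul_zero]⟩ }
    refine (Submodule.span_le.2 ?_ : _ ≤ K) ((hker w).1 hw)
    rintro _ ⟨v, ⟨i, hi⟩, rfl⟩
    exact ⟨i, by rw [hpow, hi, map_zero]⟩
  · have h := hqi i w
    rw [hi, map_zero] at h
    have hinj : Function.Injective ⇑(σ ^ i) := by rw [Module.End.coe_pow]; exact hσinj.iterate i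
    exact hinj (h.symm.trans (map_zero _).symm)
  · refine (Submodule.span_le.2 ?_) ((hker w).1 hw)
    rintro _ ⟨v, hv, rfl⟩
    obtain ⟨s, x, hs, hx⟩ := hden v
    have hv0 : q (jV v) = 0 := (hker _).2 (Submodule.subset_span ⟨v, hv, rfl⟩)
    have hjx : jW x = algebraMap k A₁ (algebraMap A₀ k s) • jV v := by
      rw [← hjV1, ← hx, map_smul]; exact (algebraMap_smul A₁ _ _).symm
    have hx0 : q (jW x) = 0 := by rw [hjx, map_smul, hv0, smul_zero]
    have : jV v = algebraMap k A₁ (algebraMap A₀ k s)⁻¹ • jW x := by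
      rw [hjx, smul_smul, ← map_mul, inv_mul_cancel₀ hs, map_one, one_smul]
    rw [this]
    exact Submodule.smul_mem _ _ (Submodule.subset_span ⟨x, hx0, rfl⟩)

end Groth.Agent.FlatB12.Spreadout
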