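import Mathlib.RingTheory.FiniteStability
import Mathlib.RingTheory.FiniteType
import Mathlib.RingTheory.IsTensorProduct
import Mathlib.RingTheory.Noetherian.Basic
import Mathlib.RingTheory.TensorProduct.Finite
import Mathlib.RingTheory.Polynomial.Basic

/-!
# A uniform bound for the torsion of a finite module on a fibre
-/

set_option autoImplicit false

universe u

open TensorProduct

namespace Groth.Agent.FlatB12.Spreadout

attribute [local instance] Algebra.TensorProduct.rightAlgebra

/-- On the fibre of a finite module over a finite type algebra, one element of a multiplicative set kills all the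
torsion for that set. -/
theorem exists_torsion_bound {A B : Type u} [CommRing A] [CommRing B] [Algebra A B] [Algebra.FiniteType A B]
    (T : Submonoid B) (N : Type u) [AddCommGroup N] [Module B N] [Module A N] [IsScalarTower A B N] [Module.Finite B N]
    (κ : Type u) [Field κ] [Algebra A κ] :
    ∃ t₀ ∈ T, ∀ t ∈ T, ∀ z : κ ⊗[A] N, ((LinearMap.lsmul B N t).restrictScalars A).lTensor κ z = 0 →
      ((LinearMap.lsmul B N t₀).restrictScalars A).lTensor κ z = 0 := by
  classical
  let R := κ ⊗[A] B
  haveI : IsNoetherianRing R := Algebra.FiniteType.isNoetherianRing κ R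
  let Z := R ⊗[B] N
  let e := Algebra.IsPushout.cancelBaseChange A κ B R N
  have he : ∀ (b : B) (z : κ ⊗[A] N),
      e.symm (((LinearMap.lsmul B N b).restrictScalars A).lTensor κ z) = algebraMap B R b • e.symm z := fun b z => by
    induction z with
    | zero => simp
    | add x y hx hy => simp only [map_add, smul_add, hx, hy]
    | tmul c x =>
      rw [LinearMap.lTensor_tmul, LinearMap.coe_restrictScalars, LinearMap.lsmul_apply,
        Algebra.IsPushout.cancelBaseChange_symm_tmul, Algebra.IsPushout.cancelBaseChange_symm_tmul,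
        ← TensorProduct.smul_tmul, smul_tmul', Algebra.smul_def, smul_eq_mul]
  let Tor : Submodule R Z :=
    { carrier := {z | ∃ t ∈ T, algebraMap B R t • z = 0}
      add_mem' := fun {x y} ⟨s, hs, hx⟩ ⟨t, ht, hy⟩ => ⟨s * t, mul_mem hs ht, by
        rw [smul_add, map_mul, mul_smul (algebraMap B R s) (algebraMap B R t) y, hy, smul_zero,
          mul_comm, mul_smul, hx, smul_zero, add_zero]⟩
      zero_mem' := ⟨1, T.one_mem, smul_zero _⟩
      smul_mem' := fun r {x} ⟨s, hs, hx⟩ => ⟨s, hs, by rw [smul_comm, hx, smul_zero]⟩ }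
  haveI : IsNoetherian R Z := isNoetherian_of_isNoetherianRing_of_finite R Z
  obtain ⟨G, hG⟩ := IsNoetherian.noetherian Tor
  choose s hs hsz using fun z : G => (hG.le (Submodule.subset_span z.2) : z.1 ∈ Tor)
  refine ⟨∏ z, s z, T.prod_mem fun z _ => hs z, fun t ht z hz => e.symm.injective ?_⟩
  rw [map_zero, he]
  have hmem : e.symm z ∈ Submodule.span R (G : Set Z) := by
    rw [hG]
    exact ⟨t, ht, by rw [← he, hz, map_zero]⟩
  refine (Submodule.span_le.2 fun w hw => ?_ :
    Submodule.span R (G : Set Z) ≤ LinearMap.ker (LinearMap.lsmul R Z (algebraMap B R (∏ z, s z)))) hmem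
  show algebraMap B R (∏ z, s z) • w = 0
  rw [← Finset.prod_erase_mul _ _ (Finset.mem_univ (⟨w, hw⟩ : G)), map_mul, mul_smul, hsz, smul_zero]

/-- Transfer of a torsion bound along an isomorphism of the coefficients. -/
theorem torsion_bound_congr {A B N : Type u} [CommRing A] [CommRing B] [AddCommGroup N] [Module B N] [Module A N]
    [Algebra A B] [IsScalarTower A B N] {K Q : Type u} [AddCommGroup K] [Module A K] [AddCommGroup Q] [Module A Q]
    (e : K ≃ₗ[A] Q) {t t₀ : B}
    (h : ∀ z : K ⊗[A] N, ((LinearMap.lsmul B N t).restrictScalars A).lTensor K z = 0 →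
      ((LinearMap.lsmul B N t₀).restrictScalars A).lTensor K z = 0)
    (z : Q ⊗[A] N) (hz : ((LinearMap.lsmul B N t).restrictScalars A).lTensor Q z = 0) :
    ((LinearMap.lsmul B N t₀).restrictScalars A).lTensor Q z = 0 := by
  have hc : ∀ (b : B) (w : K ⊗[A] N), ((LinearMap.lsmul B N b).restrictScalars A).lTensor Q (e.rTensor N w) =
      e.rTensor N (((LinearMap.lsmul B N b).restrictScalars A).lTensor K w) := fun b w => by
    induction w with
    | zero => simp
    | add x y hx hy => simp only [map_add, hx, hy]
    | tmul c x => simp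
  obtain ⟨w, rfl⟩ := (e.rTensor N).surjective z
  rw [hc] at hz ⊢
  rw [h w ((LinearEquiv.map_eq_zero_iff _).1 hz), map_zero]

end Groth.Agent.FlatB12.Spreadout
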